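import Mathlib

/-!
# Fixed points of Frobenius-semilinear endomorphisms over an algebraically closed field
-/

set_option autoImplicit false
set_option linter.style.haveILetI false

universe u v

open Polynomial

namespace Groth.Agent.Lib.SemiLinFix28.Basic

variable {p : ℕ} [Fact p.Prime] {K : Type u} [Field K] [CharP K p]

/-- An Artin–Schreier equation has a solution. -/
theorem exists_pow_sub_eq [IsAlgClosed K] (c : K) : ∃ x : K, x ^ p - x = c := by
  have hp : 2 ≤ p := (Fact.out : p.Prime).two_le
  have hdeg : (X ^ p - X - C c : K[X]).natDegree = p := by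
    rw [natDegree_sub_C]
    exact (natDegree_sub_eq_left_of_natDegree_lt (by simp; omega)).trans (natDegree_X_pow p)
  obtain ⟨x, hx⟩ := IsAlgClosed.exists_root (X ^ p - X - C c : K[X])
    (natDegree_pos_iff_degree_pos.1 (by omega)).ne'
  refine ⟨x, sub_eq_zero.1 ?_⟩
  simpa using hx

variable {M : Type v} [AddCommGroup M] [Module K M] (ψ : M →ₛₗ[frobenius K p] M)

/-- The span of a semilinear map's range. -/
def rangeS : Submodule K M := Submodule.span K (Set.range ψ)

/-- The fixed vectors. -/
def fixed : Set M := {y | ψ y = y}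

theorem map_smul_pow (c : K) (y : M) : ψ (c • y) = c ^ p • ψ y := by
  rw [ψ.map_smulₛₗ, frobenius_def]

/-- The span of the fixed vectors is stable. -/
theorem map_mem_span_fixed {y : M} (hy : y ∈ Submodule.span K (fixed ψ)) :
    ψ y ∈ Submodule.span K (fixed ψ) := by
  induction hy using Submodule.span_induction with
  | mem x hx => rw [show ψ x = x from hx]; exact Submodule.subset_span hx
  | zero => rw [map_zero]; exact Submodule.zero_mem _
  | add x y _ _ hx hy => rw [map_add]; exact Submodule.add_mem _ hx hy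
  | smul c x _ hx => rw [map_smul_pow]; exact Submodule.smul_mem _ _ hx

/-- `ψ - 1` is surjective on the span of the fixed vectors. -/
theorem exists_sub_eq [IsAlgClosed K] {c : M} (hc : c ∈ Submodule.span K (fixed ψ)) :
    ∃ u ∈ Submodule.span K (fixed ψ), ψ u - u = c := by
  suffices H : ∀ r : K, ∃ u ∈ Submodule.span K (fixed ψ), ψ u - u = r • c by
    simpa using H 1
  induction hc using Submodule.span_induction with
  | mem y hy =>
    intro r
    obtain ⟨a, ha⟩ := exists_pow_sub_eq (p := p) r
    refine ⟨a • y, Submodule.smul_mem _ _ (Submodule.subset_span hy), ?_⟩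
    rw [map_smul_pow, show ψ y = y from hy, ← sub_smul, ha]
  | zero => exact fun r => ⟨0, Submodule.zero_mem _, by simp⟩
  | add y z _ _ hy hz =>
    intro r
    obtain ⟨a, ha, hay⟩ := hy r
    obtain ⟨b, hb, hbz⟩ := hz r
    exact ⟨a + b, Submodule.add_mem _ ha hb, by rw [map_add, smul_add, ← hay, ← hbz]; abel⟩
  | smul s y _ hy =>
    intro r
    obtain ⟨a, ha, hay⟩ := hy (r * s)
    exact ⟨a, ha, hay.trans (mul_smul r s y)⟩

/-- A cyclic dependency with nonzero constant term gives a nonzero fixed vector. -/
theorem exists_fixed_of_dependency [IsAlgClosed K] {n : ℕ} (e : Fin (n + 1) → M)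
    (he : LinearIndependent K e) (hstep : ∀ i : Fin n, ψ (e i.castSucc) = e i.succ)
    (a : Fin (n + 1) → K) (ha0 : a 0 ≠ 0) (hlast : ψ (e (Fin.last n)) = ∑ i, a i • e i) :
    ∃ y : M, y ≠ 0 ∧ ψ y = y := by
  have hp : 2 ≤ p := (Fact.out : p.Prime).two_le
  -- the coefficients as polynomials in the last one
  let R : ℕ → K[X] := fun i => Nat.rec (C (a 0) * X ^ p)
    (fun j r => r ^ p + C (if h : j + 1 < n + 1 then a ⟨j + 1, h⟩ else 0) * X ^ p) i
  have hdeg : ∀ i, (R i).natDegree = p ^ (i + 1) := fun i => by
    induction i with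
    | zero => simp [R, natDegree_C_mul_X_pow p (a 0) ha0]
    | succ i ih =>
      have h1 : (R i ^ p).natDegree = p ^ (i + 2) := by
        rw [natDegree_pow, ih, pow_succ p (i + 1), mul_comm]
      refine Eq.trans ?_ h1
      refine natDegree_add_eq_left_of_natDegree_lt (lt_of_le_of_lt (natDegree_C_mul_X_pow_le _ _) ?_)
      rw [h1, pow_succ p (i + 1)]
      exact lt_mul_of_one_lt_left (by omega) (Nat.one_lt_pow (by omega) (by omega))
  have hdvd : ∀ i, X ^ 2 ∣ R i := by
    intro i
    induction i with
    | zero => exact dvd_mul_of_dvd_right (pow_dvd_pow (X : K[X]) hp) _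
    | succ i ih =>
      exact dvd_add (ih.trans (dvd_pow_self _ (by omega)))
        (dvd_mul_of_dvd_right (pow_dvd_pow (X : K[X]) hp) _)
  obtain ⟨S, hS⟩ := hdvd n
  -- the nonzero root
  have hSdeg : 0 < (X * S - 1 : K[X]).natDegree := by
    have hS0 : S ≠ 0 := fun h => by
      have := hdeg n
      rw [hS, h, mul_zero, natDegree_zero] at this
      exact absurd this.symm (pow_pos (by omega) _).ne'
    rw [show (1 : K[X]) = C 1 from C_1.symm, natDegree_sub_C, natDegree_X_mul hS0]
    exact Nat.succ_pos _
  obtain ⟨t, ht⟩ := IsAlgClosed.exists_root (X * S - 1 : K[X])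
    (natDegree_pos_iff_degree_pos.1 hSdeg).ne'
  have ht' : t * S.eval t = 1 := sub_eq_zero.1 (by simpa using ht)
  have ht0 : t ≠ 0 := left_ne_zero_of_mul_eq_one ht'
  have hroot : (R n).eval t = t := by
    rw [hS, eval_mul, eval_pow, eval_X, pow_two, mul_assoc, ht', mul_one]
  let x : Fin (n + 1) → K := fun i => (R i).eval t
  have hx0 : x 0 = a 0 * t ^ p := by simp [x, R]
  have hxs : ∀ i : Fin n, x i.succ = x i.castSucc ^ p + a i.succ * t ^ p := fun i => by
    simp only [x, R, Fin.val_succ, Fin.val_castSucc, eval_add, eval_pow, eval_mul, eval_C, eval_X,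
      dif_pos (Nat.succ_lt_succ i.2)]
    rfl
  have hxn : x (Fin.last n) = t := hroot
  refine ⟨∑ i, x i • e i, fun h => ht0 ?_, ?_⟩
  · exact hxn.symm.trans (Fintype.linearIndependent_iff.1 he x h (Fin.last n))
  · rw [map_sum]
    simp only [map_smul_pow]
    rw [Fin.sum_univ_castSucc, hlast, hxn, Finset.smul_sum]
    simp only [hstep, smul_smul]
    rw [Fin.sum_univ_succ (f := fun i => (t ^ p * a i) • e i), Fin.sum_univ_succ (f := fun i => x i • e i),
      hx0]
    simp only [hxs, add_smul, Finset.sum_add_distrib, mul_comm (t ^ p)]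
    abel

/-- Without nonzero fixed vectors every vector is killed by an iterate. -/
theorem exists_iterate_eq_zero [IsAlgClosed K] [FiniteDimensional K M]
    (h : ∀ y : M, ψ y = y → y = 0) (y : M) : ∃ N : ℕ, ψ^[N] y = 0 := by
  by_contra hN
  push Not at hN
  -- the first dependency among the iterates, in every tail
  have hex : ∀ z : M, z ≠ 0 → ∃ n : ℕ, LinearIndependent K (fun i : Fin (n + 1) => ψ^[i] z) ∧
      ¬ LinearIndependent K (fun i : Fin (n + 2) => ψ^[i] z) := fun z hz => by
    classical
    have hbad : ∃ n : ℕ, ¬ LinearIndependent K (fun i : Fin (n + 1) => ψ^[i] z) :=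
      ⟨Module.finrank K M, fun hli => by simpa using hli.fintype_card_le_finrank⟩
    have h0 : Nat.find hbad ≠ 0 := fun h0 => Nat.find_spec hbad (by
      rw [h0]
      exact linearIndependent_unique_iff (R := K) (ι := Fin 1) |>.2 (by simpa using hz))
    obtain ⟨n, hn⟩ := Nat.exists_eq_succ_of_ne_zero h0
    refine ⟨n, not_not.1 (Nat.find_min hbad (by omega)), ?_⟩
    have := Nat.find_spec hbad
    rwa [hn] at this
  choose d hd hd' using hex
  -- take a tail with the least dependency length
  classical
  have hne : ∃ k, ∃ j, d (ψ^[j] y) (hN j) = k := ⟨_, 0, rfl⟩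
  obtain ⟨j, hj⟩ := Nat.find_spec hne
  set z := ψ^[j] y with hz
  set n := d z (hN j) with hn
  have hli := hd z (hN j)
  have hmem : ψ^[n + 1] z ∈ Submodule.span K (Set.range fun i : Fin (n + 1) => ψ^[i] z) :=
    not_not.1 fun hm => hd' z (hN j) (linearIndependent_finSucc'.2 ⟨hli, hm⟩)
  obtain ⟨a, ha⟩ := (Submodule.mem_span_range_iff_exists_fun K).1 hmem
  have hlast : ψ (ψ^[n] z) = ∑ i : Fin (n + 1), a i • ψ^[i] z := by
    rw [ha, ← Function.iterate_succ_apply' ψ n z]
  have hstep : ∀ i : Fin n, ψ (ψ^[(i.castSucc : ℕ)] z) = ψ^[(i.succ : ℕ)] z := fun i =>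
    (Function.iterate_succ_apply' ψ i z).symm
  by_cases ha0 : a 0 = 0
  · -- then the tail from the next iterate has a shorter dependency
    set z' := ψ^[j + 1] y with hz'
    have hz'' : z' = ψ z := Function.iterate_succ_apply' ψ j y
    have hn' : n ≤ d z' (hN (j + 1)) := by
      rw [hj]
      exact Nat.find_min' hne ⟨j + 1, rfl⟩
    have hli' : LinearIndependent K (fun i : Fin (n + 1) => ψ^[i] z') := by
      have := hd z' (hN (j + 1))
      exact this.comp (Fin.castLE (by omega)) (Fin.castLE_injective _)
    have hsum : ∀ i : Fin n, ψ^[(i.succ : ℕ)] z = ψ^[(i.castSucc : ℕ)] z' := fun i => by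
      rw [hz'', Fin.val_succ, Function.iterate_succ_apply]
      rfl
    rw [Fin.sum_univ_succ, ha0, zero_smul, zero_add] at hlast
    have hrel := Fintype.linearIndependent_iff.1 hli' (Fin.lastCases (-1) fun i => a i.succ) (by
      rw [Fin.sum_univ_castSucc]
      simp only [Fin.lastCases_castSucc, Fin.lastCases_last, neg_smul, one_smul, Fin.val_last, ← hsum]
      rw [hz'', ← Function.iterate_succ_apply, Function.iterate_succ_apply', hlast, add_neg_cancel])
      (Fin.last n)
    simp at hrel
  · obtain ⟨w, hw, hfix⟩ := exists_fixed_of_dependency ψ _ hli hstep a ha0 hlast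
    exact hw (h w hfix)

/-- Some iterate has image in the span of the fixed vectors. -/
theorem exists_iterate_mem_span_fixed [IsAlgClosed K] [FiniteDimensional K M] (y : M) :
    ∃ N : ℕ, ψ^[N] y ∈ Submodule.span K (fixed ψ) := by
  let U := Submodule.span K (fixed ψ)
  let ψ' : M ⧸ U →ₛₗ[frobenius K p] M ⧸ U := U.mapQ U ψ fun x hx => map_mem_span_fixed ψ hx
  have hψ' : ∀ x : M, ψ' (U.mkQ x) = U.mkQ (ψ x) := fun x => rfl
  have hfix : ∀ x : M ⧸ U, ψ' x = x → x = 0 := fun x hx => by
    obtain ⟨x, rfl⟩ := U.mkQ_surjective x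
    rw [hψ'] at hx
    obtain ⟨w, hw, hwe⟩ := exists_sub_eq ψ ((Submodule.Quotient.eq U).1 hx)
    have : x - w ∈ fixed ψ := by
      show ψ (x - w) = x - w
      rw [map_sub]
      exact sub_eq_sub_iff_sub_eq_sub.2 hwe.symm
    refine (Submodule.Quotient.mk_eq_zero U).2 ?_
    simpa using U.add_mem (Submodule.subset_span this) hw
  obtain ⟨N, hN⟩ := exists_iterate_eq_zero ψ' hfix (U.mkQ y)
  refine ⟨N, (Submodule.Quotient.mk_eq_zero U).1 ?_⟩
  rw [← hN]
  clear hN
  induction N with
  | zero => rfl
  | succ N ih =>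
    rw [Function.iterate_succ_apply' ψ', ← ih, Function.iterate_succ_apply' ψ]
    rfl

/-- Fixed vectors independent over the prime field are independent over `K`. -/
theorem linearIndependent_of_fixed {F : Type*} [Field F] [Algebra F K] [Module F M] [IsScalarTower F K M]
    (hF : ∀ x : K, x ^ p = x → x ∈ Set.range (algebraMap F K)) {ι : Type*} (v : ι → M)
    (hv : ∀ i, ψ (v i) = v i) (hli : LinearIndependent F v) : LinearIndependent K v := by
  classical
  rw [linearIndependent_iff']
  intro s
  induction s using Finset.induction_on with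
  | empty => simp
  | insert i s hi ih =>
    intro g hg j hj
    by_cases hgi : g i = 0
    · rcases Finset.mem_insert.1 hj with rfl | hj
      · exact hgi
      · rw [Finset.sum_insert hi, hgi, zero_smul, zero_add] at hg
        exact ih g hg j hj
    exfalso
    let c : ι → K := fun l => (g i)⁻¹ * g l
    have hc : v i + ∑ l ∈ s, c l • v l = 0 := by
      have := congrArg ((g i)⁻¹ • ·) hg
      simpa [Finset.sum_insert hi, Finset.smul_sum, smul_smul, hgi, c] using this
    have hcp : v i + ∑ l ∈ s, c l ^ p • v l = 0 := by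
      simpa [map_smul_pow, hv, frobenius_def] using congrArg ψ hc
    have hfix : ∀ l ∈ s, c l ^ p = c l := fun l hl => sub_eq_zero.1
      (ih (fun l => c l ^ p - c l) (by
        simp only [sub_smul, Finset.sum_sub_distrib]
        linear_combination (norm := abel) hcp - hc) l hl)
    have hex : ∀ l, ∃ b : F, l ∈ s → algebraMap F K b = c l := fun l => by
      by_cases hl : l ∈ s
      · exact (hF (c l) (hfix l hl)).elim fun b hb => ⟨b, fun _ => hb⟩
      · exact ⟨0, fun h => absurd h hl⟩
    choose b hb using hex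
    have := linearIndependent_iff'.1 hli (insert i s) (fun l => if l = i then 1 else b l) (by
      rw [Finset.sum_insert hi, if_pos rfl, one_smul, ← hc]
      refine congrArg (v i + ·) (Finset.sum_congr rfl fun l hl => ?_)
      rw [if_neg (ne_of_mem_of_not_mem hl hi), ← hb l hl, algebraMap_smul]) i (Finset.mem_insert_self i s)
    simp at this

/-- Traces agree when the matrices do. -/
theorem algebraMap_trace {F : Type*} [Field F] [Algebra F K] {W : Type*} [AddCommGroup W] [Module F W]
    {U' : Type*} [AddCommGroup U'] [Module K U'] {ι : Type*} [Fintype ι] [DecidableEq ι]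
    (b : Module.Basis ι F W) (bU : Module.Basis ι K U') (G : W →ₗ[F] W) (f : U' →ₗ[K] U')
    (h : ∀ i j, bU.repr (f (bU j)) i = algebraMap F K (b.repr (G (b j)) i)) :
    algebraMap F K (LinearMap.trace F W G) = LinearMap.trace K U' f := by
  rw [LinearMap.trace_eq_matrix_trace _ b, LinearMap.trace_eq_matrix_trace _ bU, Matrix.trace,
    Matrix.trace, map_sum]
  exact Finset.sum_congr rfl fun i _ => by
    rw [Matrix.diag_apply, Matrix.diag_apply, LinearMap.toMatrix_apply, LinearMap.toMatrix_apply, h]

section Trace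

variable [FiniteDimensional K M] {U : Submodule K M} (f : M →ₗ[K] M)

/-- The trace is that of the restriction to an invariant subspace eventually containing the image. -/
theorem trace_eq_restrict (hU : ∀ x ∈ U, f x ∈ U) {N : ℕ} (hN : ∀ x, (f ^ N) x ∈ U) :
    LinearMap.trace K M f = LinearMap.trace K U (f.restrict hU) := by
  obtain ⟨C, hC⟩ := U.exists_isCompl
  let P : M →ₗ[K] M := U.subtype ∘ₗ U.projectionOnto C hC
  have hP : ∀ x ∈ U, P x = x := fun x hx =>
    congrArg Subtype.val (Submodule.projectionOnto_apply_left hC ⟨x, hx⟩)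
  have hPm : ∀ x, P x ∈ U := fun x => (U.projectionOnto C hC x).2
  have hnil : IsNilpotent ((1 - P) * f) := by
    refine ⟨N + 1, LinearMap.ext fun x => ?_⟩
    have key : ∀ k : ℕ, ((((1 - P) * f) ^ k) x - (f ^ k) x) ∈ U := fun k => by
      induction k with
      | zero => simp
      | succ k ih =>
        rw [pow_succ', pow_succ' f]
        have := U.sub_mem (hU _ ih) (hPm (f ((((1 - P) * f) ^ k) x)))
        convert this using 1
        simp [map_sub]
        abel
    have h1 : (((1 - P) * f) ^ N) x ∈ U := by simpa using U.add_mem (key N) (hN x)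
    rw [pow_succ']
    show (1 - P) (f ((((1 - P) * f) ^ N) x)) = 0
    simp [hP _ (hU _ h1)]
  have h0 : LinearMap.trace K M ((1 - P) * f) = 0 :=
    (LinearMap.isNilpotent_trace_of_isNilpotent hnil).eq_zero
  have h1 : LinearMap.trace K M f = LinearMap.trace K M (f * P) := by
    rw [LinearMap.trace_mul_comm]
    rwa [sub_mul, one_mul, map_sub, sub_eq_zero] at h0
  have hrange : ∀ x, (f * P) x ∈ U := fun x => hU _ (hPm x)
  rw [h1, ← LinearMap.trace_restrict_eq_of_forall_mem U (f * P) hrange]
  exact congrArg _ (LinearMap.ext fun x => Subtype.ext (congrArg f (hP x x.2)))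

end Trace

end Groth.Agent.Lib.SemiLinFix28.Basic
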